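import Mathlib
import Cfsg.Prelude.Def_SylowChains
import Cfsg.Agent.Lib.LAE.Sylow
import Cfsg.Agent.Lib.Core.Fitting

/-!
Control of Sylow intersections by a family of subgroups, in ambient form.
-/

set_option autoImplicit false

open Subgroup Cfsg CfsgLib.LAE Relation

namespace CfsgLib.SylCtl

/-- Finite chains versus the reflexive transitive closure. -/
theorem exists_chain_iff {α : Type*} (r : α → α → Prop) (a b : α) :
    (∃ (n : ℕ) (c : Fin (n + 1) → α), c 0 = a ∧ c (Fin.last n) = b ∧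
      ∀ i : Fin n, r (c i.castSucc) (c i.succ)) ↔ ReflTransGen r a b := by
  constructor
  · rintro ⟨n, c, rfl, rfl, h⟩
    have : ∀ i : Fin (n + 1), ReflTransGen r (c 0) (c i) := by
      intro i
      induction i using Fin.induction with
      | zero => exact ReflTransGen.refl
      | succ i ih => exact ih.tail (h i)
    exact this _
  · intro h
    induction h with
    | refl => exact ⟨0, fun _ => a, rfl, rfl, fun i => i.elim0⟩
    | @tail b' c' _ hbc ih =>
      obtain ⟨n, c, h0, hl, hs⟩ := ih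
      refine ⟨n + 1, Fin.snoc c c', ?_, by simp, fun i => ?_⟩
      · rw [← h0]; exact Fin.snoc_castSucc (α := fun _ => α) c' c 0
      · induction i using Fin.lastCases with
        | last =>
          rw [Fin.succ_last, Fin.snoc_last, Fin.snoc_castSucc, hl]; exact hbc
        | cast j =>
          rw [Fin.succ_castSucc, Fin.snoc_castSucc, Fin.snoc_castSucc]; exact hs j

theorem rtg_lift {α β : Type*} {r : α → α → Prop} {s : β → β → Prop} (f : α → β)
    (h : ∀ a b, r a b → s (f a) (f b)) {a b : α} (hab : ReflTransGen r a b) :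
    ReflTransGen s (f a) (f b) := by
  induction hab with
  | refl => exact ReflTransGen.refl
  | tail _ hbc ih => exact ih.tail (h _ _ hbc)

variable {G : Type*} [Group G] {p : ℕ}

theorem subgroupConjRight_eq (g : G) (X : Subgroup G) : subgroupConjRight g X = conjS g⁻¹ X := rfl

theorem mem_sylowMembers {𝓕 : Set (Subgroup G)} {S X : Subgroup G} :
    X ∈ sylowMembers p 𝓕 S ↔ X ∈ 𝓕 ∧ IsSylowIn p (S ⊓ X) X := by
  rw [isSylowIn_iff_exists]; rfl

theorem conjS_mem_of_isNormalSet {𝓕 : Set (Subgroup G)} (h : IsNormalSet 𝓕) {X : Subgroup G}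
    (hX : X ∈ 𝓕) (g : G) : conjS g X ∈ 𝓕 := by
  have := h X hX g⁻¹
  rwa [subgroupConjRight_eq, inv_inv] at this

theorem conjS_mem_sylowMembers {𝓕 : Set (Subgroup G)} (h : IsNormalSet 𝓕) {S X : Subgroup G}
    (hX : X ∈ sylowMembers p 𝓕 S) (g : G) : conjS g X ∈ sylowMembers p 𝓕 (conjS g S) := by
  rw [mem_sylowMembers] at hX ⊢
  exact ⟨conjS_mem_of_isNormalSet h hX.1 g, by rw [← conjS_inf]; exact hX.2.conj g⟩

/-- One link of a chain of Sylow subgroups of `M`. -/
def Step (p : ℕ) (𝓕 : Set (Subgroup G)) (M D S T : Subgroup G) : Prop :=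
  IsSylowIn p S M ∧ IsSylowIn p T M ∧ ∃ X ∈ 𝓕, IsSylowIn p (S ⊓ X) X ∧ IsSylowIn p (T ⊓ X) X ∧
    (∃ x ∈ X, conjS x S = T) ∧ D ≤ T ⊓ X

/-- Chains of Sylow subgroups of `M`. -/
def Conn (p : ℕ) (𝓕 : Set (Subgroup G)) (M D : Subgroup G) : Subgroup G → Subgroup G → Prop :=
  ReflTransGen (Step p 𝓕 M D)

/-- Ambient form of control of Sylow intersections in `M`. -/
def CtlIn (p : ℕ) (𝓕 : Set (Subgroup G)) (M : Subgroup G) : Prop :=
  ∀ S T, IsSylowIn p S M → IsSylowIn p T M → S ⊓ T ≠ ⊥ → Conn p 𝓕 M (S ⊓ T) S T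

theorem Step.mono {𝓕 𝓕' : Set (Subgroup G)} {M D D' S T : Subgroup G} (h : Step p 𝓕 M D S T)
    (h1 : 𝓕 ⊆ 𝓕') (h2 : D' ≤ D) : Step p 𝓕' M D' S T := by
  obtain ⟨a, b, X, hX, c, d, e, f⟩ := h
  exact ⟨a, b, X, h1 hX, c, d, e, h2.trans f⟩

theorem Conn.mono {𝓕 𝓕' : Set (Subgroup G)} {M D D' S T : Subgroup G} (h : Conn p 𝓕 M D S T)
    (h1 : 𝓕 ⊆ 𝓕') (h2 : D' ≤ D) : Conn p 𝓕' M D' S T := by
  induction h with
  | refl => exact ReflTransGen.refl
  | tail _ hbc ih => exact ih.tail (hbc.mono h1 h2)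

theorem controls_iff_aux (𝓕 : Set (Subgroup G)) :
    ControlsSylowIntersections p 𝓕 ↔ ∀ S T : Sylow p G, (S : Subgroup G) ⊓ T ≠ ⊥ →
      ReflTransGen (fun A B : Sylow p G => Step p 𝓕 ⊤ ((S : Subgroup G) ⊓ T) A B) S T := by
  constructor
  · intro h S T hne
    by_cases hST : S = T
    · subst hST; exact ReflTransGen.refl
    obtain ⟨n, c, X, x, h0, hl, hs⟩ := h S T hST hne
    refine (exists_chain_iff _ _ _).mp ⟨n, c, h0, hl, fun i => ?_⟩
    obtain ⟨h1, h2, h3, h4, h5⟩ := hs i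
    rw [mem_sylowMembers] at h1 h2
    refine ⟨isSylowIn_top _, isSylowIn_top _, X i, h1.1, h1.2, h2.2, ⟨x i, h3, ?_⟩, h5⟩
    rw [← h4, subgroupConjRight_eq, conjS_conjS_inv]
  · intro h S T _ hne
    obtain ⟨n, c, h0, hl, hs⟩ := (exists_chain_iff _ _ _).mpr (h S T hne)
    choose h1 h2 X hX h3 h4 h5 h6 using hs
    choose x hx h7 using h5
    refine ⟨n, c, X, x, h0, hl, fun i => ⟨mem_sylowMembers.mpr ⟨hX i, h3 i⟩,
      mem_sylowMembers.mpr ⟨hX i, h4 i⟩, hx i, ?_, h6 i⟩⟩
    rw [subgroupConjRight_eq, ← h7 i, conjS_inv_conjS]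

theorem controls_iff (𝓕 : Set (Subgroup G)) :
    ControlsSylowIntersections p 𝓕 ↔ CtlIn p 𝓕 ⊤ := by
  rw [controls_iff_aux]
  constructor
  · intro h S T hS hT hne
    obtain ⟨S, rfl⟩ := hS.exists_sylow_top
    obtain ⟨T, rfl⟩ := hT.exists_sylow_top
    exact rtg_lift (fun A : Sylow p G => (A : Subgroup G)) (fun _ _ h => h) (h S T hne)
  · intro h S T hne
    have h1 := h S T (isSylowIn_top S) (isSylowIn_top T) hne
    generalize (S : Subgroup G) ⊓ T = D at h1
    have : ∀ B, Conn p 𝓕 ⊤ D S B → ∀ T : Sylow p G, (T : Subgroup G) = B →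
        ReflTransGen (fun A B : Sylow p G => Step p 𝓕 ⊤ D A B) S T := by
      intro B hB
      induction hB with
      | refl => intro T hT; rw [Sylow.ext hT]
      | @tail b c _ hbc ih =>
        rintro T rfl
        obtain ⟨U, rfl⟩ := hbc.1.exists_sylow_top
        exact (ih U rfl).tail hbc
    exact this _ h1 T rfl

/-- Transport of steps along an injective homomorphism. -/
theorem Step.map [Fact p.Prime] [Finite G] {G' : Type*} [Group G'] {f : G →* G'}
    (hf : Function.Injective f) {𝓕 : Set (Subgroup G)} {M D S T : Subgroup G}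
    (h : Step p 𝓕 M D S T) :
    Step p ((fun X => X.map f) '' 𝓕) (M.map f) (D.map f) (S.map f) (T.map f) := by
  obtain ⟨a, b, X, hX, c, d, ⟨x, hx, e⟩, g⟩ := h
  refine ⟨a.map f, b.map f, X.map f, ⟨X, hX, rfl⟩, ?_, ?_, ⟨f x, mem_map_of_mem f hx, ?_⟩, ?_⟩
  · rw [← map_inf _ _ _ hf]; exact c.map f
  · rw [← map_inf _ _ _ hf]; exact d.map f
  · rw [← map_conjS, e]
  · rw [← map_inf _ _ _ hf]; exact map_mono g

theorem Step.of_map [Fact p.Prime] {G' : Type*} [Group G'] {f : G →* G'}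
    (hf : Function.Injective f) {𝓕 : Set (Subgroup G)} {M D S T : Subgroup G}
    (h : Step p ((fun X => X.map f) '' 𝓕) (M.map f) (D.map f) (S.map f) (T.map f)) :
    Step p 𝓕 M D S T := by
  obtain ⟨a, b, _, ⟨X, hX, rfl⟩, c, d, ⟨_, ⟨x, hx, rfl⟩, e⟩, g⟩ := h
  simp only [← map_inf _ _ _ hf] at c d g
  refine ⟨a.of_map_injective hf, b.of_map_injective hf, X, hX, c.of_map_injective hf,
    d.of_map_injective hf, ⟨x, hx, ?_⟩, (map_le_map_iff_of_injective hf).mp g⟩
  rw [← map_conjS] at e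
  exact map_injective hf e

theorem ctlIn_map_iff [Fact p.Prime] [Finite G] {G' : Type*} [Group G'] {f : G →* G'}
    (hf : Function.Injective f) {𝓕 : Set (Subgroup G)} {M : Subgroup G} :
    CtlIn p ((fun X => X.map f) '' 𝓕) (M.map f) ↔ CtlIn p 𝓕 M := by
  have hex : ∀ S : Subgroup G', S ≤ M.map f → ∃ S' : Subgroup G, S = S'.map f := fun S hS =>
    ⟨S.comap f, (map_comap_eq_self (hS.trans (map_le_range f M))).symm⟩
  constructor
  · intro h S T hS hT hne
    have h1 := h _ _ (hS.map f) (hT.map f) (by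
      rw [← map_inf _ _ _ hf]; rwa [Ne, map_eq_bot_iff_of_injective _ hf])
    rw [← map_inf _ _ _ hf] at h1
    generalize S ⊓ T = D at h1
    have : ∀ B, Conn p ((fun X => X.map f) '' 𝓕) (M.map f) (D.map f) (S.map f) B →
        ∀ T : Subgroup G, T.map f = B → Conn p 𝓕 M D S T := by
      intro B hB
      induction hB with
      | refl => intro T hT; rw [map_injective hf hT]; exact ReflTransGen.refl
      | @tail b c _ hbc ih =>
        rintro T rfl
        obtain ⟨U, rfl⟩ := hex _ hbc.1.le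
        exact (ih U rfl).tail (hbc.of_map hf)
    exact this _ h1 T rfl
  · intro h S T hS hT hne
    obtain ⟨S, rfl⟩ := hex _ hS.le
    obtain ⟨T, rfl⟩ := hex _ hT.le
    rw [← map_inf _ _ _ hf] at hne ⊢
    have h1 := h S T (hS.of_map_injective hf) (hT.of_map_injective hf)
      (fun e => hne (by rw [e, Subgroup.map_bot]))
    exact rtg_lift (fun A : Subgroup G => A.map f) (fun _ _ h => Step.map hf h) h1

theorem mem_functorFamily {f : Subgroup G → Set (Subgroup G)} {M X : Subgroup G} :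
    X ∈ functorFamily p f M ↔
      ∃ P, IsSylowIn p P M ∧ ∃ F ∈ f P, X = M ⊓ normalizer (F : Set G) := by
  constructor
  · rintro ⟨P, F, hF, e⟩
    exact ⟨_, isSylowIn_map_subtype P, F, hF, e⟩
  · rintro ⟨P, hP, F, hF, e⟩
    obtain ⟨Q, rfl⟩ := hP.exists_sylow
    exact ⟨Q, F, hF, e⟩

theorem isFunctorRegular_iff [Fact p.Prime] [Finite G] {f : Subgroup G → Set (Subgroup G)}
    {M : Subgroup G} : IsFunctorRegular p f M ↔ CtlIn p (functorFamily p f M) M := by
  rw [IsFunctorRegular, controls_iff, ← ctlIn_map_iff M.subtype_injective]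
  have e1 : (⊤ : Subgroup M).map M.subtype = M := by
    rw [← MonoidHom.range_eq_map, range_subtype]
  have e2 : (fun X : Subgroup M => X.map M.subtype) ''
      ((fun X : Subgroup G => X.subgroupOf M) '' functorFamily p f M) = functorFamily p f M := by
    rw [Set.image_image]
    conv_rhs => rw [← Set.image_id (functorFamily p f M)]
    refine Set.image_congr fun X hX => ?_
    obtain ⟨P, -, F, -, rfl⟩ := mem_functorFamily.mp hX
    exact map_subgroupOf_eq_of_le inf_le_left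
  rw [e1, e2]

theorem functorFamily_conjS {f : Subgroup G → Set (Subgroup G)} (hf : IsNormalizerFunctor p f)
    (M : Subgroup G) (g : G) :
    functorFamily p f (conjS g M) = (fun X => conjS g X) '' functorFamily p f M := by
  have key : ∀ (M : Subgroup G) (g : G), ∀ X ∈ functorFamily p f M,
      conjS g X ∈ functorFamily p f (conjS g M) := by
    intro M g X hX
    obtain ⟨P, hP, F, hF, rfl⟩ := mem_functorFamily.mp hX
    refine mem_functorFamily.mpr ⟨conjS g P, hP.conj g, conjS g F, ?_, ?_⟩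
    · have := (hf P hP.isPGroup).2 g
      rw [conjS_def, this]
      exact ⟨F, hF, rfl⟩
    · rw [conjS_inf, conjS_normalizer]
  ext X
  constructor
  · intro hX
    have := key _ g⁻¹ X hX
    rw [conjS_inv_conjS] at this
    exact ⟨_, this, conjS_conjS_inv g X⟩
  · rintro ⟨Y, hY, rfl⟩
    exact key M g Y hY

theorem ctlIn_functorFamily_conjS [Fact p.Prime] [Finite G] {f : Subgroup G → Set (Subgroup G)}
    (hf : IsNormalizerFunctor p f) {M : Subgroup G} (h : CtlIn p (functorFamily p f M) M) (g : G) :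
    CtlIn p (functorFamily p f (conjS g M)) (conjS g M) := by
  rw [functorFamily_conjS hf]
  exact (ctlIn_map_iff (f := (MulAut.conj g).toMonoidHom) (MulAut.conj g).injective).mpr h

/-- Unpacking a step for the family induced by a functor. -/
theorem Step.functor [Fact p.Prime] [Finite G] {f : Subgroup G → Set (Subgroup G)}
    (hf : IsNormalizerFunctor p f) {M D S T : Subgroup G}
    (h : Step p (functorFamily p f M) M D S T) :
    ∃ F ∈ f S, T ≤ normalizer (F : Set G) ∧ ∃ x ∈ normalizer (F : Set G), conjS x S = T := by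
  obtain ⟨a, b, X, hX, c, d, ⟨x, hx, e⟩, -⟩ := h
  obtain ⟨P, hP, F, hF, rfl⟩ := mem_functorFamily.mp hX
  have hPX : P ≤ M ⊓ normalizer (F : Set G) :=
    le_inf hP.le (le_normalizer.trans ((hf P hP.isPGroup).1 F hF).2)
  have hP' : IsSylowIn p P (M ⊓ normalizer (F : Set G)) := hP.mono hPX inf_le_left
  have key : ∀ U, IsSylowIn p U M → IsSylowIn p (U ⊓ (M ⊓ normalizer (F : Set G)))
      (M ⊓ normalizer (F : Set G)) → U ⊓ (M ⊓ normalizer (F : Set G)) = U := by
    intro U h1 h2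
    refine CfsgLib.Core.eq_of_le_of_card_le inf_le_left (le_of_eq ?_)
    rw [h2.card_eq hP', h1.card_eq hP]
  have hS := key S a c
  have hT := key T b d
  rw [hS] at c
  obtain ⟨y, hy, e'⟩ := hP'.exists_conj c
  refine ⟨F, ?_, (inf_eq_left.mp hT).trans inf_le_right, x, (mem_inf.mp hx).2, e⟩
  have := (hf P hP.isPGroup).2 y
  rw [← e', conjS_def, this]
  exact ⟨F, hF, mem_normalizer_iff_conjS.mp (mem_inf.mp hy).2⟩

/-- A step in a subgroup `M` between Sylow subgroups of `G` is a step in `G`. -/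
theorem Step.to_top [Fact p.Prime] [Finite G] {f : Subgroup G → Set (Subgroup G)}
    (hf : IsNormalizerFunctor p f) {M D S T : Subgroup G}
    (h : Step p (functorFamily p f M) M D S T) (hS : IsSylowIn p S ⊤) :
    Step p (functorFamily p f ⊤) ⊤ D S T := by
  obtain ⟨F, hF, hT, x, hx, e⟩ := h.functor hf
  have hT' : IsSylowIn p T ⊤ := e ▸ hS.conj_of_mem (mem_top x)
  have hSF : S ≤ normalizer (F : Set G) := le_normalizer.trans ((hf S hS.isPGroup).1 F hF).2
  obtain ⟨-, -, X, -, -, -, -, hD⟩ := h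
  refine ⟨hS, hT', ⊤ ⊓ normalizer (F : Set G), mem_functorFamily.mpr ⟨S, hS, F, hF, rfl⟩,
    ?_, ?_, ⟨x, mem_inf.mpr ⟨mem_top x, hx⟩, e⟩, ?_⟩
  · rw [top_inf_eq, inf_eq_left.mpr hSF]; exact hS.mono hSF le_top
  · rw [top_inf_eq, inf_eq_left.mpr hT]; exact hT'.mono hT le_top
  · rw [top_inf_eq, inf_eq_left.mpr hT]; exact hD.trans inf_le_left

theorem Conn.to_top [Fact p.Prime] [Finite G] {f : Subgroup G → Set (Subgroup G)}
    (hf : IsNormalizerFunctor p f) {M D S T : Subgroup G}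
    (h : Conn p (functorFamily p f M) M D S T) (hS : IsSylowIn p S ⊤) (hSM : S ≤ M) :
    Conn p (functorFamily p f ⊤) ⊤ D S T := by
  induction h with
  | refl => exact ReflTransGen.refl
  | @tail b c _ hbc ih => exact ih.tail (hbc.to_top hf (hbc.1.of_le_of_isSylowIn hS hSM le_top))

theorem exists_sylow_between [Fact p.Prime] [Finite G] {S G₁ G₂ : Subgroup G}
    (hS : IsSylowIn p S ⊤) (h1 : S ≤ G₁) (h2 : S ≤ G₂)
    (hfact : ∀ g : G, ∃ g₁ ∈ G₁, ∃ g₂ ∈ G₂, g = g₁ * g₂) (g : G) :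
    ∃ U, IsSylowIn p U ⊤ ∧ S ⊓ conjS g S ≤ U ∧ U ≤ G₁ ⊓ conjS g G₂ := by
  obtain ⟨a, ha, b, hb, rfl⟩ := hfact g
  have h3 : conjS a S ≤ G₁ ⊓ conjS (a * b) G₂ := by
    refine le_inf (conjS_le_of_le_of_mem h1 ha) ?_
    rw [conjS_mul, conjS_eq_of_mem hb]
    exact conjS_mono h2
  obtain ⟨U, hU, hle⟩ := exists_isSylowIn_ge (p := p) (Q := S ⊓ conjS (a * b) S)
    (H := G₁ ⊓ conjS (a * b) G₂) (hS.isPGroup.to_le inf_le_left) (inf_le_inf h1 (conjS_mono h2))
  exact ⟨U, hU.of_le_of_isSylowIn (hS.conj_of_mem (mem_top a)) h3 le_top, hle, hU.le⟩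

theorem ctlIn_top_of_factorization [Fact p.Prime] [Finite G] {f : Subgroup G → Set (Subgroup G)}
    (hf : IsNormalizerFunctor p f) {S G₁ G₂ : Subgroup G}
    (hS : IsSylowIn p S ⊤) (h1 : S ≤ G₁) (h2 : S ≤ G₂)
    (hfact : ∀ g : G, ∃ g₁ ∈ G₁, ∃ g₂ ∈ G₂, g = g₁ * g₂)
    (hr₁ : CtlIn p (functorFamily p f G₁) G₁) (hr₂ : CtlIn p (functorFamily p f G₂) G₂) :
    CtlIn p (functorFamily p f ⊤) ⊤ := by
  intro P Q hP hQ hne
  obtain ⟨a, -, rfl⟩ := hS.exists_conj hP
  obtain ⟨g, -, rfl⟩ := hP.exists_conj hQ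
  obtain ⟨U, hU, hU1, hU2⟩ := exists_sylow_between hP (conjS_mono (g := a) h1)
    (conjS_mono (g := a) h2) (fun y => by
      obtain ⟨u, hu, v, hv, e⟩ := hfact (a⁻¹ * y * a)
      refine ⟨_, conj_mem_conjS.mpr hu, _, conj_mem_conjS.mpr hv, ?_⟩
      calc y = a * (a⁻¹ * y * a) * a⁻¹ := by group
        _ = _ := by rw [e]; group) g
  have c1 := ctlIn_functorFamily_conjS hf hr₁ a (conjS a S) U (hP.mono (conjS_mono h1) le_top)
    (hU.mono (hU2.trans inf_le_left) le_top)
    (fun e => hne (le_bot_iff.mp (e ▸ le_inf inf_le_left hU1)))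
  have c2 := ctlIn_functorFamily_conjS hf (ctlIn_functorFamily_conjS hf hr₂ a) g U
    (conjS g (conjS a S)) (hU.mono (hU2.trans inf_le_right) le_top)
    (hQ.mono (conjS_mono (conjS_mono h2)) le_top)
    (fun e => hne (le_bot_iff.mp (e ▸ le_inf hU1 inf_le_right)))
  exact ((c1.to_top hf hP (conjS_mono h1)).mono le_rfl (le_inf inf_le_left hU1)).trans
    ((c2.to_top hf hU (hU2.trans inf_le_right)).mono le_rfl (le_inf hU1 inf_le_right))

theorem exists_isMaximalPLocal_ge [Finite G] {L : Subgroup G} (hL : IsPLocal p L) :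
    ∃ M, IsMaximalPLocal p M ∧ L ≤ M := by
  obtain ⟨M, hLM, hM⟩ := Finite.exists_le_maximal hL
  exact ⟨M, ⟨hM.1, fun N hN h => le_antisymm (hM.2 hN h) h⟩, hLM⟩

theorem ctlIn_union_singular [Fact p.Prime] [Finite G] {f : Subgroup G → Set (Subgroup G)}
    (hf : IsNormalizerFunctor p f)
    (hf1 : ∀ P : Subgroup G, IsPGroup p P → P ≠ ⊥ → ∀ F ∈ f P, F ≠ ⊥) :
    CtlIn p (functorFamily p f ⊤ ∪ {M | IsMaximalPLocal p M ∧ ¬ IsFunctorRegular p f M}) ⊤ := by
  set 𝓕 := functorFamily p f ⊤ ∪ {M | IsMaximalPLocal p M ∧ ¬ IsFunctorRegular p f M} with h𝓕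
  suffices H : ∀ (n : ℕ) (S T : Subgroup G), Nat.card G - Nat.card (S ⊓ T : Subgroup G) = n →
      IsSylowIn p S ⊤ → IsSylowIn p T ⊤ → S ⊓ T ≠ ⊥ → Conn p 𝓕 ⊤ (S ⊓ T) S T from
    fun S T => H _ S T rfl
  intro n
  induction n using Nat.strong_induction_on with
  | _ n ih =>
  intro S T hn hS hT hne
  by_cases hST : S = T
  · subst hST; exact ReflTransGen.refl
  set D := S ⊓ T with hD
  have hbig : ∀ A B, IsSylowIn p A ⊤ → IsSylowIn p B ⊤ → D < A ⊓ B → Conn p 𝓕 ⊤ D A B := by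
    intro A B hA hB hlt
    have h1 := CfsgLib.Core.card_lt_of_lt hlt
    have h2 : Nat.card (A ⊓ B : Subgroup G) ≤ Nat.card G := card_le_card_group _
    exact (ih _ (by omega) A B rfl hA hB (fun e => by rw [e] at hlt; exact not_lt_bot hlt)).mono
      le_rfl hlt.le
  have claim : ∀ (m : ℕ) (A B L : Subgroup G), Nat.card G - Nat.card A = m → IsPLocal p L →
      A ≤ L → B ≤ L → IsPGroup p A → IsPGroup p B → D < A → D < B →
      ∀ S' T', IsSylowIn p S' ⊤ → IsSylowIn p T' ⊤ → A ≤ S' → B ≤ T' → Conn p 𝓕 ⊤ D S' T' := by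
    intro m
    induction m using Nat.strong_induction_on with
    | _ m ih2 =>
    intro A B L hm hL hAL hBL hA hB hDA hDB S' T' hS' hT' hAS hBT
    obtain ⟨M, hM, hLM⟩ := exists_isMaximalPLocal_ge hL
    obtain ⟨A', hA', hAA⟩ := exists_isSylowIn_ge hA (hAL.trans hLM)
    obtain ⟨B', hB', hBB⟩ := exists_isSylowIn_ge hB (hBL.trans hLM)
    obtain ⟨S₁, hS₁, hAS₁⟩ := exists_isSylowIn_ge (H := ⊤) hA'.isPGroup le_top
    refine (hbig S' S₁ hS' hS₁ (hDA.trans_le (le_inf hAS (hAA.trans hAS₁)))).trans ?_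
    by_cases hreg : IsFunctorRegular p f M
    · have hc := isFunctorRegular_iff.mp hreg A' B' hA' hB' (fun e => hne (le_bot_iff.mp
        (e ▸ le_inf (hDA.le.trans hAA) (hDB.le.trans hBB))))
      have hc' := hc.mono le_rfl (le_inf (hDA.le.trans hAA) (hDB.le.trans hBB))
      have key : ∀ P, Conn p (functorFamily p f M) M D A' P → IsSylowIn p P M ∧ D < P ∧
          ∀ U, IsSylowIn p U ⊤ → P ≤ U → Conn p 𝓕 ⊤ D S₁ U := by
        intro P hP
        induction hP with
        | refl =>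
          exact ⟨hA', hDA.trans_le hAA, fun U hU h =>
            hbig S₁ U hS₁ hU (hDA.trans_le (le_inf (hAA.trans hAS₁) (hAA.trans h)))⟩
        | @tail b c _ hbc ih3 =>
          obtain ⟨hb, hDb, hcon⟩ := ih3
          have hc : IsSylowIn p c M := hbc.2.1
          have hDc : D < c := by
            obtain ⟨-, -, X, -, -, -, -, hD'⟩ := hbc
            refine lt_of_le_of_ne (hD'.trans inf_le_left) fun e => ?_
            have h1 := CfsgLib.Core.card_lt_of_lt hDb
            rw [hb.card_eq hc, e] at h1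
            exact lt_irrefl _ h1
          refine ⟨hc, hDc, fun U hU hcU => ?_⟩
          obtain ⟨V, hV, hbV⟩ := exists_isSylowIn_ge (H := ⊤) hb.isPGroup le_top
          refine (hcon V hV hbV).trans ?_
          rcases hbV.eq_or_lt with e | hlt
          · subst e
            have h1 := hbc.to_top hf hV
            have h2 : c = U := (h1.2.1.eq_of_le _ hU.isPGroup hcU le_top).symm
            subst h2
            exact ReflTransGen.single (h1.mono Set.subset_union_left le_rfl)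
          · obtain ⟨F, hF, hcF, -⟩ := hbc.functor hf
            have h1 := CfsgLib.Core.lt_inf_normalizer_of_isPGroup hV.isPGroup hlt
            have hb1 : b ≠ ⊥ := fun e => by rw [e] at hDb; exact not_lt_bot hDb
            have h2 := (hf b hb.isPGroup).1 F hF
            have h3 := CfsgLib.Core.card_lt_of_lt h1
            have h4 : Nat.card A ≤ Nat.card b := hb.card_le hA (hAL.trans hLM)
            have h5 : Nat.card (V ⊓ normalizer (b : Set G) : Subgroup G) ≤ Nat.card G :=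
              card_le_card_group _
            exact ih2 _ (by omega) (V ⊓ normalizer (b : Set G)) c (normalizer (F : Set G)) rfl
              ⟨F, hb.isPGroup.to_le h2.1, hf1 b hb.isPGroup hb1 F hF, rfl⟩
              (inf_le_right.trans h2.2) hcF (hV.isPGroup.to_le inf_le_left) hc.isPGroup
              (hDb.trans h1) hDc V U hV hU inf_le_left hcU
      obtain ⟨T₁, hT₁, hBT₁⟩ := exists_isSylowIn_ge (H := ⊤) hB'.isPGroup le_top
      exact ((key B' hc').2.2 T₁ hT₁ hBT₁).trans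
        (hbig T₁ T' hT₁ hT' (hDB.trans_le (le_inf (hBB.trans hBT₁) hBT)))
    · obtain ⟨x, hx, e⟩ := hA'.exists_conj hB'
      have hT₁ : IsSylowIn p (conjS x S₁) ⊤ := hS₁.conj_of_mem (mem_top x)
      have hBT₁ : B' ≤ conjS x S₁ := e ▸ conjS_mono hAS₁
      have e1 : S₁ ⊓ M = A' :=
        hA'.eq_of_le _ (hS₁.isPGroup.to_le inf_le_left) (le_inf hAS₁ hA'.le) inf_le_right
      have e2 : conjS x S₁ ⊓ M = B' :=
        hB'.eq_of_le _ (hT₁.isPGroup.to_le inf_le_left) (le_inf hBT₁ hB'.le) inf_le_right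
      refine ReflTransGen.head (b := conjS x S₁) ⟨hS₁, hT₁, M, Or.inr ⟨hM, hreg⟩, e1 ▸ hA',
        e2 ▸ hB', ⟨x, hx, rfl⟩, e2 ▸ hDB.le.trans hBB⟩ ?_
      exact hbig _ T' hT₁ hT' (hDB.trans_le (le_inf (hBB.trans hBT₁) hBT))
  have hDS : D < S := lt_of_le_of_ne inf_le_left fun e =>
    hST (hS.eq_of_le _ hT.isPGroup (inf_eq_left.mp e) le_top).symm
  have hDT : D < T := lt_of_le_of_ne inf_le_right fun e =>
    hST (hT.eq_of_le _ hS.isPGroup (inf_eq_right.mp e) le_top)
  exact claim _ (S ⊓ normalizer (D : Set G)) (T ⊓ normalizer (D : Set G)) (normalizer (D : Set G))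
    rfl ⟨D, hS.isPGroup.to_le inf_le_left, hne, rfl⟩ inf_le_right inf_le_right
    (hS.isPGroup.to_le inf_le_left) (hT.isPGroup.to_le inf_le_left)
    (CfsgLib.Core.lt_inf_normalizer_of_isPGroup hS.isPGroup hDS)
    (CfsgLib.Core.lt_inf_normalizer_of_isPGroup hT.isPGroup hDT) S T hS hT inf_le_left inf_le_left

end CfsgLib.SylCtl
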